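import Mathlib.LinearAlgebra.BilinearForm.Properties
import Mathlib.Algebra.Polynomial.Reverse
import Mathlib.Algebra.Polynomial.AlgebraMap
import Mathlib.RingTheory.Artinian.Module
import Mathlib.LinearAlgebra.FiniteDimensional.Basic

/-!
# The bilinear form on a generalized kernel of a self-reciprocal polynomial
-/

open Polynomial

namespace Groth.Agent.GenKerBilin

universe u v

variable {k : Type u} [Field k] {V : Type v} [AddCommGroup V] [Module k V] [FiniteDimensional k V]
  (B : LinearMap.BilinForm k V) (M : V ≃ₗ[k] V)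

theorem aeval_symm_comp (Q : k[X]) (w : V) :
    aeval (M.symm : V →ₗ[k] V) Q (((M : V →ₗ[k] V) ^ Q.natDegree) w) = aeval (M : V →ₗ[k] V) Q.reverse w := by
  have hzy : ∀ (i : ℕ) (x : V), ((M.symm : V →ₗ[k] V) ^ i) (((M : V →ₗ[k] V) ^ i) x) = x := fun i => by
    induction i with
    | zero => intro x; simp
    | succ i ih =>
      intro x
      rw [pow_succ, pow_succ']
      simp [ih]
  have hd : Q.reverse.natDegree < Q.natDegree + 1 := Nat.lt_succ_of_le (Polynomial.reverse_natDegree_le _)
  rw [aeval_eq_sum_range, aeval_eq_sum_range' hd, LinearMap.sum_apply, LinearMap.sum_apply,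
    ← Finset.sum_range_reflect]
  refine Finset.sum_congr rfl fun j hj => ?_
  have hjd : j ≤ Q.natDegree := Nat.lt_succ_iff.1 (Finset.mem_range.1 hj)
  simp only [Nat.add_sub_cancel, LinearMap.smul_apply]
  rw [Polynomial.coeff_reverse, Polynomial.revAt_le hjd]
  congr 1
  have h2 : (M : V →ₗ[k] V) ^ Q.natDegree = (M : V →ₗ[k] V) ^ (Q.natDegree - j) * (M : V →ₗ[k] V) ^ j := by
    rw [← pow_add, Nat.sub_add_cancel hjd]
  rw [h2]
  exact hzy _ _

theorem aeval_left (hM : ∀ x y : V, B (M x) (M y) = B x y) (Q : k[X]) (x y : V) :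
    B (aeval (M : V →ₗ[k] V) Q x) y = B x (aeval (M.symm : V →ₗ[k] V) Q y) := by
  induction Q using Polynomial.induction_on' with
  | add p q hp hq => simp [map_add, LinearMap.add_apply, hp, hq]
  | monomial n c =>
    have h : ∀ (n : ℕ) (x y : V), B (((M : V →ₗ[k] V) ^ n) x) y = B x (((M.symm : V →ₗ[k] V) ^ n) y) := fun n => by
      induction n with
      | zero => intro x y; simp
      | succ n ih =>
        intro x y
        rw [pow_succ', pow_succ]
        simp only [Module.End.mul_apply, LinearEquiv.coe_coe]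
        rw [← ih x (M.symm y)]
        conv_rhs => rw [← hM]
        simp
    simp [Polynomial.aeval_monomial, Module.End.mul_apply, Module.algebraMap_end_apply, h]

theorem nondegenerate_genKer (hB : B.Nondegenerate) (hM : ∀ x y : V, B (M x) (M y) = B x y)
    (Q : k[X]) (hQ : Associated Q Q.reverse) :
    (B.restrict (⨆ n : ℕ, LinearMap.ker (aeval (M : V →ₗ[k] V) Q ^ n))).Nondegenerate := by
  let y₀ : Module.End k V := (M : V →ₗ[k] V)
  let z₀ : Module.End k V := (M.symm : V →ₗ[k] V)
  let N : Module.End k V := aeval y₀ Q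
  let N' : Module.End k V := aeval z₀ Q
  obtain ⟨D, hcompl, hsup⟩ := ((LinearMap.eventually_isCompl_ker_pow_range_pow N).and
    (LinearMap.eventually_iSup_ker_pow_eq N)).exists
  obtain ⟨c, hc⟩ := hQ
  obtain ⟨r, hr, hrc⟩ := Polynomial.isUnit_iff.1 c.isUnit
  have hyz : y₀ * z₀ = 1 := LinearMap.ext fun w => M.apply_symm_apply w
  have hzy : z₀ * y₀ = 1 := LinearMap.ext fun w => M.symm_apply_apply w
  have hN'w : ∀ w, N' ((y₀ ^ Q.natDegree) w) = r • N w := fun w => by
    refine (aeval_symm_comp M Q w).trans ?_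
    rw [← hc, ← hrc, map_mul, aeval_C, Module.End.mul_apply, Module.algebraMap_end_apply, map_smul]
  have hN' : N' = N * (r • z₀ ^ Q.natDegree) := by
    refine LinearMap.ext fun w => ?_
    have h1 : (y₀ ^ Q.natDegree) ((z₀ ^ Q.natDegree) w) = w := by
      rw [← Module.End.mul_apply, ← (show Commute y₀ z₀ from hyz.trans hzy.symm).mul_pow, hyz, one_pow]
      rfl
    conv_lhs => rw [← h1]
    rw [hN'w, Module.End.mul_apply, LinearMap.smul_apply, map_smul]
  have hcomm : Commute N (r • z₀ ^ Q.natDegree) := by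
    have h1 : Commute y₀ z₀ := hyz.trans hzy.symm
    have h2 : Commute z₀ N := Algebra.commute_of_mem_adjoin_singleton_of_commute
      (Polynomial.aeval_mem_adjoin_singleton k y₀) h1.symm
    exact ((h2.pow_left Q.natDegree).symm).smul_right r
  have hker : ∀ y, (N ^ D) y = 0 → (N' ^ D) y = 0 := fun y hy => by
    rw [hN', hcomm.mul_pow, (hcomm.pow_pow D D).eq, Module.End.mul_apply, hy, map_zero]
  have hadj : ∀ (n : ℕ) (x y : V), B ((N ^ n) x) y = B x ((N' ^ n) y) := fun n => by
    induction n with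
    | zero => intro x y; rfl
    | succ n ih =>
      intro x y
      rw [pow_succ', pow_succ, Module.End.mul_apply, Module.End.mul_apply, ← ih x (N' y)]
      exact aeval_left B M hM Q _ y
  have hM' : ∀ x y : V, B.flip (M x) (M y) = B.flip x y := fun x y => hM y x
  have hadj' : ∀ (n : ℕ) (x y : V), B y ((N ^ n) x) = B ((N' ^ n) y) x := fun n => by
    induction n with
    | zero => intro x y; rfl
    | succ n ih =>
      intro x y
      rw [pow_succ', pow_succ, Module.End.mul_apply, Module.End.mul_apply, ← ih x (N' y)]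
      exact aeval_left B.flip M hM' Q _ y
  rw [show (⨆ n : ℕ, LinearMap.ker (aeval (M : V →ₗ[k] V) Q ^ n)) = LinearMap.ker (N ^ D) from hsup]
  refine ⟨fun x hx => Subtype.ext (hB.1 x.1 fun w => ?_), fun y hy => Subtype.ext (hB.2 y.1 fun w => ?_)⟩
  · obtain ⟨a, ha, b, ⟨u, rfl⟩, rfl⟩ := Submodule.mem_sup.1 (hcompl.sup_eq_top.ge (Submodule.mem_top (x := w)))
    have h1 : B x.1 a = 0 := hx ⟨a, ha⟩
    rw [map_add, h1, zero_add, hadj', hker _ (LinearMap.mem_ker.1 x.2)]
    simp
  · obtain ⟨a, ha, b, ⟨u, rfl⟩, rfl⟩ := Submodule.mem_sup.1 (hcompl.sup_eq_top.ge (Submodule.mem_top (x := w)))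
    have h1 : B a y.1 = 0 := hy ⟨a, ha⟩
    rw [map_add, LinearMap.add_apply, h1, zero_add, hadj, hker _ (LinearMap.mem_ker.1 y.2)]
    simp

end Groth.Agent.GenKerBilin
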